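import Groth.Agent.ResProp.EF.K566.SmallTh
import Groth.Agent.ResProp.EF.K566.SmallArch
import Groth.Agent.ResProp.EF.K494.SeamC

/-!
# The terms of a kernel datum are small comodules with an action of `P` (c4 of F5), helper735

`rhoK K d dd p` : `p : P` acts on `usC (cmCx K d dd)`; `isAct_rhoK`; `sm_of_small`: `Arch.Small c ι π (K n)` gives
`K566.Sm c.Y.j π ((cmCx K d dd).X n) (fun p => (rhoK K d dd p).f n)`; `sm_kernel` for a `KernelDatum`.
-/

set_option autoImplicit false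
set_option linter.dupNamespace false
set_option linter.style.haveILetI false

open CategoryTheory CategoryTheory.Limits Opposite HomologicalComplex

noncomputable section

namespace Groth.Agent.ResProp.EF.K735

open K784.BC K784.PM K741.RP EF56 Groth.Agent.ResProp.EF.K294 Grp Arch K494.Seam
open K409 (IsAct)

universe u

variable {k : Type u} [CommRing k] {A : NFᵒᵖ ⥤ CommRingCat.{u}} [GRF k A] [Fact (GR A)]

section

variable {E : Gp k} {P : Type u} [CommRing P] [Algebra (A.obj (op ⟨0⟩)) P]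
  (K : ℤ → SObj k A E P) (d : ∀ n : ℤ, (K n).Hom (K (n + 1)))
  (dd : ∀ (n : ℤ) (m : (K n).M.obj ⟨0⟩), (d (n + 1)).f ⟨0⟩ ((d n).f ⟨0⟩ m) = 0)

/-- `P` acts on the chart complex of the complex of comodules -/
def rhoK (p : P) : (chartF A).usC.obj (cmCx K d dd) ⟶ (chartF A).usC.obj (cmCx K d dd) :=
  (usCmCx K d dd).hom ≫ actP K d dd p ≫ (usCmCx K d dd).inv

theorem rhoK_f (p : P) (n : ℤ) : (rhoK K d dd p).f n = ModuleCat.ofHom (smulP (K n) p) := by
  change 𝟙 _ ≫ (actP K d dd p).f n ≫ 𝟙 _ = _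
  rw [Category.id_comp, Category.comp_id]
  rfl

theorem isAct_rhoK (n : ℤ) : IsAct (A := A.obj (op ⟨0⟩)) (P := P)
    (V := ((chartF A).usC.obj (cmCx K d dd)).X n) (fun p => (rhoK K d dd p).f n) where
  one := by
    rw [rhoK_f]
    apply ModuleCat.hom_ext
    exact LinearMap.ext fun m => one_smul P (show (K n).M.obj ⟨0⟩ from m)
  mul p q := by
    rw [rhoK_f, rhoK_f, rhoK_f]
    apply ModuleCat.hom_ext
    refine LinearMap.ext fun m => ?_
    change (p * q) • (show (K n).M.obj ⟨0⟩ from m) = q • p • (show (K n).M.obj ⟨0⟩ from m)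
    rw [mul_comm, mul_smul]
  add p q := by
    rw [rhoK_f, rhoK_f, rhoK_f]
    apply ModuleCat.hom_ext
    exact LinearMap.ext fun m => add_smul p q (show (K n).M.obj ⟨0⟩ from m)
  alg a := by
    rw [rhoK_f]
    apply ModuleCat.hom_ext
    exact LinearMap.ext fun m => algebraMap_smul P a (show (K n).M.obj ⟨0⟩ from m)

end

section

variable {x : PrimeSpectrum (A.obj (op ⟨0⟩))} {c : CoverDatum k A x} {E : Gp k} {P : Type u} [CommRing P]
  [Algebra (A.obj (op ⟨0⟩)) P] {ι : c.H.O →ₐc[k] E.O} {π : P →ₐ[A.obj (op ⟨0⟩)] c.Y.D.obj (op ⟨0⟩)}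
  (K : ℤ → SObj k A E P) (d : ∀ n : ℤ, (K n).Hom (K (n + 1)))
  (dd : ∀ (n : ℤ) (m : (K n).M.obj ⟨0⟩), (d (n + 1)).f ⟨0⟩ ((d n).f ⟨0⟩ m) = 0)

theorem sm_of_small (hπ : Function.Surjective π) (n : ℤ) (h : Small c ι π (K n)) :
    K566.Sm c.Y.j (π : P →+* c.Y.D.obj (op ⟨0⟩)) ((cmCx K d dd).X n) (fun p => (rhoK K d dd p).f n) := by
  refine ⟨isAct_rhoK K d dd n, ?_⟩
  refine (K566.gsmall h).of_bijective Fact.out (fun φ => c.Y.cart φ) hπ
    (Y := K566.gobj ((cmCx K d dd).X n) (fun p => (rhoK K d dd p).f n) (isAct_rhoK K d dd n))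
    { f := fun a => LinearMap.id (M := (K n).M.obj a)
      nat := fun φ m => rfl
      pl := fun p m => ?_ } Function.bijective_id
  exact (congrArg (fun g => g.hom m) (rhoK_f K d dd p n)).symm

/-- **KerSm**: the terms of a kernel datum are small -/
theorem sm_kernel (KD : KernelDatum c) (n : ℤ) :
    K566.Sm c.Y.j (KD.π : KD.P →+* c.Y.D.obj (op ⟨0⟩)) ((cmCx KD.K KD.d KD.dd).X n)
      (fun p => (rhoK KD.K KD.d KD.dd p).f n) :=
  sm_of_small KD.K KD.d KD.dd KD.π_surj n (KD.small n)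

end

end Groth.Agent.ResProp.EF.K735
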